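import Cfsg.Agent.Lib.J2.Data2
import Cfsg.Agent.Lib.F2.Fus

/-!
# The Hall–Janko group: 2-fusion (generated data)
-/

set_option autoImplicit false
set_option maxRecDepth 100000

namespace Cfsg.Lib.J2

open Cfsg.Lib.Calc Cfsg.Lib.F2

/-- words -/
def qSw : List ℕ := [97, 15, 87, 35]
theorem qS_ok : wHas 24 p2_U (qL.zip qSw) = true := by decide +kernel
/-- words -/
def sCw : List ℕ := [758, 20, 2825]
theorem sC_ok : wHas 24 c_A (p2L.zip sCw) = true := by decide +kernel
theorem cen_q : enumChk 24 8 6 c_U c_T (fun C => forceB (mmul 24 (idM 24) C) fun C' =>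
  allL qE fun D => forceB (mmul 24 C' D) (cenP 24 24 (idM 24) qL [idM 24, zM])) 0 1 = true := by decide +kernel
theorem big_c : conjL 24 (p2L.getD 0 0) cI (fun L => slpHas 24 (L ++ p2L) [4096, 9216, 7171, 4096, 6144, 9222, 10240, 8192, 13323, 10250, 13312, 16384, 12300] cL) = true := by decide +kernel
/-- steps for strong closure -/
def sclT : List (List ℕ × ℕ × ℕ × ℕ) := [([], 0x80000040000020000010000008000004000002000001000000800000400000200080100000080031c4000002000001009ec0800000400000201b2010ee200854a004c9e0025feb61, 992915, 54),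
  ([1024], 0x8000000c000064c0006ba00008000048000035a0003e60000840000880007340008810009d4360d72c60e6e960e6ea6042c98044c040d98b400a2b30550348ccaa0404e222b10301, 1646762, 88),
  ([2049], 0x8000000c000064c0006ba00008000048000035a0003e60000840000880007340008810009d4360d72c60e6e960e6ea6042c98044c040d98b400a2b30550348ccaa0404e222b10301, 459267, 60),
  ([], 0x80000040000020000010000008000004000002000001000000800000400000200080100000080031c4000002000001009ec0800000400000201b2010ee200854a004c9e0025feb61, 52604, 226),
  ([3072, 3072], 0x800000208000c080007bc00000c0006c4000018000828000808000888000e3200000900042a8007bc6005a0200c74a601a02c0a440407bab4079aa10c26848d3aa44cba802a4c061, 2138801, 6),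
  ([1024, 5120], 0xe0800068c00084400061a840008040e08040724360dfe3608c0000200040d423606f64d4ff40004cc043bb62200502405c0eb5840000e70b007bfcffdad384ba21293b96809b52c0, 355988, 108)]
theorem scl_ok : sclChk 24 g_A p2_U sclT (fun L => slpHas 24 L [1025, 2048, 8192, 5124, 5120, 6149, 7168, 12288] p2L) [zM] = true := by decide +kernel
end Cfsg.Lib.J2
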