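import Cfsg.Agent.Lib.J2.Basic
import Cfsg.Agent.Lib.J2.Data3

/-!
# The 2-fusion system of the Hall–Janko group
-/

set_option autoImplicit false

namespace Cfsg.Lib.J2

open Cfsg.Spor Cfsg.Lib.Leech Cfsg.Lib.Calc Cfsg.Lib.F2 MulAction

theorem good_p2 : ∀ C ∈ p2L, Good 24 code2 (gp1 cL) C := good_of_zip code2_lt good_cA sC_ok
theorem good_p2U : ∀ C ∈ p2_U, Good 24 code2 (gp1 p2L) C := good_of_slpHas code2_lt (good_genL good_p2) p2_slp
theorem p2_le : gp1 p2L ≤ gp1 cL := coded1.genL_le (ker1_le _) good_p2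
theorem q_le_p2 : gp1 qL ≤ gp1 p2L := coded1.genL_le (ker1_le _) (good_of_zip code2_lt good_p2U qS_ok)
theorem card_p2 : Nat.card (gp1 p2L) = 128 := by
  rw [coded1.level0 tst1 good_p2U p2_hd p2_cov exists_code2 p2_inc, card_ker1]

theorem center_p2 : ∀ g ∈ gp1 p2L, (∀ s ∈ gp1 p2L, s * g = g * s) → g = 1 ∨ LRep 24 code2 g zM := fun g hg e => by
  obtain ⟨C, hC, h⟩ := (coded1.covE tst1 le_rfl good_p2U good_nil p2_hd p2_cov).center coded1 sur1 tst1
    (good_genL good_p2) (by
      rw [show b2.map Prod.fst = [zM] by decide +kernel]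
      simp only [zL, List.cons_append, List.nil_append, List.forall_mem_cons, List.not_mem_nil, false_imp_iff,
        implies_true, and_true]
      exact ⟨⟨1, LRep.one code2_lt⟩, _, lrep_zz⟩) (by norm_num) cen2 hg e
  rw [show b2.map Prod.fst = [zM] by decide +kernel] at hC
  simp only [zL, List.cons_append, List.nil_append, List.mem_cons, List.not_mem_nil, or_false] at hC
  rcases hC with rfl | rfl
  exacts [Or.inl (coded1.eq_one ker1 h), Or.inr h]

/-- An element of the centraliser of `zz` which centralises the extraspecial group. -/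
theorem cen_q' : ∀ c ∈ gp1 cL, (∀ q ∈ gp1 qL, c * q = q * c) → c = 1 ∨ c = zz := fun c hc e => by
  obtain ⟨C, h1, h2⟩ := covE_c.enum_lst coded1 lst_q cen_q (by norm_num) (LRep.one code2_lt) hc
  rw [one_mul] at h1
  have := cenP_spec sur1 (good_genL good_q) h2 h1 e
  simp only [List.mem_cons, List.not_mem_nil, or_false] at this
  rcases this with rfl | rfl
  exacts [Or.inl (coded1.eq_one ker1 h1), Or.inr (h1.eq_of_ker coded1 ker1 lrep_zz)]

theorem fusData : FusData 2 hj ⊥ (gp1 p2L) (gp1 qL) (gp1 cL) where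
  central := by simp
  cop := by simp
  pg := IsPGroup.of_card (n := 7) card_p2
  idx := by rw [relIndex_eq (n := 4725) (p2_le.trans c_le) (by rw [card_hj, card_p2])]; norm_num
  ne := fun h => by have := card_p2; rw [h, Subgroup.card_bot] at this; omega
  le := q_le_p2
  le' := p2_le
  le'' := c_le
  conj := btw_q.conj
  nrm := fun g hg e => ⟨g, (comm_zz hg).1 (coded1.comm_of_nrm ker1 lrep_zz (q_le_p2 zz_mem_q)
    (fun s hs => (comm_zz (c_le (p2_le hs))).2 (p2_le hs)) center_p2 e), by simp⟩
  cen := fun c hc e => by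
    rcases cen_q' c hc e with rfl | rfl
    exacts [one_mem _, q_le_p2 zz_mem_q]
  big := coded1.big_of (As := cI) (ker1_le _) (invL_of code2_lt (good_genL good_c) c_inv)
    (good_genL good_p2 _ (by decide +kernel)) (good_genL good_p2) big_c
  sc := coded1.noSC ker1 (p := 2) (IsPGroup.of_card (n := 7) card_p2) (p2_le.trans c_le) good_gA good_p2U (by decide)
    (by decide) center_p2 scl_ok

end Cfsg.Lib.J2
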