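import Cfsg.Prelude.Def_Spor_J2
import Cfsg.Agent.Lib.Leech.Co1

/-!
# The icosian Leech lattice is the Leech lattice
-/

set_option autoImplicit false

namespace Cfsg.Lib.J2

open Cfsg.Spor Quaternion Cfsg.Lib.Leech Cfsg.Lib.Calc Cfsg.Lib.Golay Finset

/-- Quaternions with coordinates in `ℤ[√5]`. -/
structure Q8 where
  (a a' b b' c c' d d' : ℤ)
  deriving DecidableEq

namespace Q8

/-- The value. -/
noncomputable def ev (x : Q8) : ℍ[ℝ] := ⟨x.a + x.a' * √5, x.b + x.b' * √5, x.c + x.c' * √5, x.d + x.d' * √5⟩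

@[simp] theorem ev_re (x : Q8) : x.ev.re = x.a + x.a' * √5 := rfl
@[simp] theorem ev_imI (x : Q8) : x.ev.imI = x.b + x.b' * √5 := rfl
@[simp] theorem ev_imJ (x : Q8) : x.ev.imJ = x.c + x.c' * √5 := rfl
@[simp] theorem ev_imK (x : Q8) : x.ev.imK = x.d + x.d' * √5 := rfl

/-- Sum. -/
def add (x y : Q8) : Q8 :=
  ⟨x.a + y.a, x.a' + y.a', x.b + y.b, x.b' + y.b', x.c + y.c, x.c' + y.c', x.d + y.d, x.d' + y.d'⟩
/-- Integer multiple. -/
def sm (n : ℤ) (x : Q8) : Q8 := ⟨n * x.a, n * x.a', n * x.b, n * x.b', n * x.c, n * x.c', n * x.d, n * x.d'⟩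
/-- Conjugate. -/
def cj (x : Q8) : Q8 := ⟨x.a, x.a', -x.b, -x.b', -x.c, -x.c', -x.d, -x.d'⟩
/-- Product. -/
def qmul (x y : Q8) : Q8 :=
  ⟨x.a * y.a - x.b * y.b - x.c * y.c - x.d * y.d + 5 * (x.a' * y.a' - x.b' * y.b' - x.c' * y.c' - x.d' * y.d'),
   x.a * y.a' - x.b * y.b' - x.c * y.c' - x.d * y.d' + (x.a' * y.a - x.b' * y.b - x.c' * y.c - x.d' * y.d),
   x.a * y.b + x.b * y.a + x.c * y.d - x.d * y.c + 5 * (x.a' * y.b' + x.b' * y.a' + x.c' * y.d' - x.d' * y.c'),
   x.a * y.b' + x.b * y.a' + x.c * y.d' - x.d * y.c' + (x.a' * y.b + x.b' * y.a + x.c' * y.d - x.d' * y.c),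
   x.a * y.c - x.b * y.d + x.c * y.a + x.d * y.b + 5 * (x.a' * y.c' - x.b' * y.d' + x.c' * y.a' + x.d' * y.b'),
   x.a * y.c' - x.b * y.d' + x.c * y.a' + x.d * y.b' + (x.a' * y.c - x.b' * y.d + x.c' * y.a + x.d' * y.b),
   x.a * y.d + x.b * y.c - x.c * y.b + x.d * y.a + 5 * (x.a' * y.d' + x.b' * y.c' - x.c' * y.b' + x.d' * y.a'),
   x.a * y.d' + x.b * y.c' - x.c * y.b' + x.d * y.a' + (x.a' * y.d + x.b' * y.c - x.c' * y.b + x.d' * y.a)⟩

theorem s5 : (√5 : ℝ) ^ 2 = 5 := Real.sq_sqrt (by norm_num)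

theorem ev_add (x y : Q8) : ev (add x y) = ev x + ev y := by ext <;> simp [add] <;> ring
theorem ev_sm (n : ℤ) (x : Q8) : ev (sm n x) = (n : ℝ) • ev x := by ext <;> simp [sm] <;> ring
theorem ev_cj (x : Q8) : ev (cj x) = star (ev x) := by ext <;> simp [cj] <;> ring
theorem ev_mul (x y : Q8) : ev (qmul x y) = ev x * ev y := by
  have := s5
  ext <;> simp [qmul] <;> grind

end Q8

open Q8

theorem irr {a b c d : ℤ} (h : (a : ℝ) + b * √5 = c + d * √5) : a = c ∧ b = d := by
  have hi : Irrational √5 := by simpa using Nat.Prime.irrational_sqrt Nat.prime_five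
  by_cases e : b = d
  · subst e; exact ⟨by exact_mod_cast add_right_cancel h, rfl⟩
  · have : ((b - d : ℤ) : ℝ) * √5 = (c - a : ℤ) := by push_cast; linarith
    exact absurd this ((hi.intCast_mul (sub_ne_zero.2 e)).ne_int _)

/-- An octad of coordinates gives a quaternion. -/
def lin (x0 x1 x2 x3 x4 x5 x6 x7 : ℤ) : Q8 :=
  ⟨-x1 - x2 - 2 * x3 - x4 - x5 - x6 - x7, x3 - x0, x0 - 2 * x1 + x2 + x3 - x4 - x6 + x7, x1 - x5,
   x0 + x1 - x2 + x3 - 2 * x4 + x5 - x7, x4 - x6, x0 - x1 - 2 * x2 + x3 + x4 - x5 + x6, x2 - x7⟩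

/-- Eight times the icosian vector. -/
def mdl (f : ℕ → ℤ) : Fin 3 → Q8 :=
  ![lin (f 0) (f 1) (f 2) (f 3) (f 4) (f 7) (f 10) (f 12), lin (f 5) (f 22) (f 21) (f 19) (f 14) (f 13) (f 8) (f 11),
    lin (f 9) (f 23) (f 15) (f 18) (f 6) (f 16) (f 20) (f 17)]

/-- Eight times the icosian vector. -/
def mV (v : GolayPt → ℤ) : Fin 3 → Q8 := mdl fun i => v (gPt i)

/-- Eight times the icosian vector of a packed vector. -/
def mN (a : ℕ) : Fin 3 → Q8 := mdl fun i => (get 8 a i : ℤ) - 64

theorem mV_vN (a : ℕ) : mV (vN a) = mN a := by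
  simp [mV, mN, mdl, vN, gIdx_gPt]

/-- The icosian vector of a lattice vector. -/
noncomputable def psi : leechLattice →+ (Fin 3 → ℍ[ℝ]) :=
  AddMonoidHom.mk' (fun v t => (1 / 8 : ℝ) • ev (mV v t)) fun v w => by
    funext t
    rw [Pi.add_apply, ← smul_add, ← ev_add]
    congr 2
    fin_cases t <;> simp [mV, mdl, lin, add] <;> omega

theorem psi_apply (v : leechLattice) (t : Fin 3) : psi v t = (1 / 8 : ℝ) • ev (mV v t) := rfl

theorem psi_of_coe {v : leechLattice} {a : ℕ} (h : (v : GolayPt → ℤ) = vN a) (t : Fin 3) :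
    psi v t = (1 / 8 : ℝ) • ev (mN a t) := by rw [psi_apply, h, mV_vN]

/-- The Hermitian product. -/
def qipM (x y : Fin 3 → Q8) : Q8 := add (qmul (x 0) (cj (y 0))) (add (qmul (x 1) (cj (y 1))) (qmul (x 2) (cj (y 2))))

theorem qip_psi (v w : leechLattice) : qip (psi v) (psi w) = (1 / 64 : ℝ) • ev (qipM (mV v) (mV w)) := by
  simp only [qip, Fin.sum_univ_three, psi_apply, qipM, ev_add, ev_mul, ev_cj, Quaternion.star_smul, smul_mul_smul_comm,
    smul_add, add_assoc]
  norm_num

/-- Rational part of the norm. -/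
def nA (v : leechLattice) : ℤ := (qipM (mV v) (mV v)).a
/-- Irrational part of the norm. -/
def nB (v : leechLattice) : ℤ := (qipM (mV v) (mV v)).a'

theorem nA_add_nB (v : leechLattice) : nA v + nB v = 8 * nm(v) := by
  have : nm(v) = ∑ i ∈ range 24, (v : GolayPt → ℤ) (gPt i) ^ 2 := by
    rw [← sum_golayPt fun i => (v : GolayPt → ℤ) (gPt i) ^ 2]; simp only [gPt_gIdx]; rfl
  rw [this]
  simp [nA, nB, qipM, mV, mdl, lin, add, qmul, cj, sum_range_succ]
  ring

theorem qip_self (v : leechLattice) : qip (psi v) (psi v) = (((nA v + nB v * √5) / 64 : ℝ) : ℍ[ℝ]) := by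
  rw [qip_psi]
  have : qipM (mV v) (mV v) = ⟨nA v, nB v, 0, 0, 0, 0, 0, 0⟩ := by
    simp only [nA, nB, qipM, add, qmul, cj, Q8.mk.injEq, true_and]
    refine ⟨?_, ?_, ?_, ?_, ?_, ?_⟩ <;> ring
  rw [this]
  ext <;> simp only [re_smul, imI_smul, imJ_smul, imK_smul, ev_re, ev_imI, ev_imJ, ev_imK, re_coe, imI_coe, imJ_coe,
    imK_coe] <;> simp [div_eq_inv_mul]

theorem nB_eq {v w : leechLattice} (h : qip (psi v) (psi v) = qip (psi w) (psi w)) : nB v = nB w := by
  rw [qip_self, qip_self, Quaternion.coe_inj] at h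
  exact (irr (a := nA v) (c := nA w) (by linarith)).2

theorem qip_eq_four {v : leechLattice} : qip (psi v) (psi v) = 4 ↔ nm(v) = 32 ∧ nB v = 0 := by
  have := nA_add_nB v
  rw [qip_self, show (4 : ℍ[ℝ]) = ((4 : ℝ) : ℍ[ℝ]) from rfl, Quaternion.coe_inj]
  refine ⟨fun h => ?_, fun h => ?_⟩
  · have := irr (a := nA v) (b := nB v) (c := 256) (d := 0) (by push_cast; linarith)
    omega
  · rw [h.2, show nA v = 256 by omega]; norm_num

theorem psi_injective : Function.Injective psi := (injective_iff_map_eq_zero _).2 fun v h => by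
  have h1 := qip_self v
  rw [h, show qip 0 0 = ((0 : ℝ) : ℍ[ℝ]) by simp [qip], Quaternion.coe_inj] at h1
  have := irr (a := nA v) (b := nB v) (c := 0) (d := 0) (by push_cast; linarith)
  have := nA_add_nB v
  exact Subtype.ext (sqNorm_eq_zero (by omega))

theorem forall_psi (F : (Fin 3 → ℍ[ℝ]) →+ (Fin 3 → ℍ[ℝ])) (S : AddSubgroup (Fin 3 → ℍ[ℝ]))
    (h : ∀ j < 24, F (psi (bas j)) ∈ S) (v : leechLattice) : F (psi v) ∈ S := by
  rw [← sum_coord v, map_sum, map_sum]
  exact S.sum_mem fun j hj => by rw [map_zsmul, map_zsmul]; exact S.zsmul_mem (h j (mem_range.1 hj)) _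

/-! ### Icosians -/

/-- A quarter of the value. -/
noncomputable def q4 (x : Q8) : ℍ[ℝ] := (1 / 4 : ℝ) • ev x

theorem q4_mul {x y z : Q8} (hx : q4 x ∈ icosians) (hy : q4 y ∈ icosians) (h : qmul x y = sm 4 z) :
    q4 z ∈ icosians := by
  have : q4 z = q4 x * q4 y := by rw [q4, q4, q4, smul_mul_smul_comm, ← ev_mul, h, ev_sm, smul_smul]; norm_num
  exact this ▸ mul_mem hx hy

theorem q4_comb {x y : Q8} (n : ℤ) (hx : q4 x ∈ icosians) (hy : q4 y ∈ icosians) :
    q4 (add (sm n x) y) ∈ icosians := by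
  rw [q4, ev_add, ev_sm, smul_add, smul_comm, Int.cast_smul_eq_zsmul]
  exact add_mem (zsmul_mem hx n) hy

/-- `4 i` -/
def bi : Q8 := ⟨0, 0, 4, 0, 0, 0, 0, 0⟩
/-- four times the second generator -/
def bw : Q8 := ⟨2, 0, 1, -1, 0, 0, 1, 1⟩

theorem q4_bi : q4 bi = qI := by ext <;> simp [q4, bi, qI]
theorem q4_bw : q4 bw = ⟨1 / 2, sig / 2, 0, tau / 2⟩ := by ext <;> simp [q4, bw, sig, tau] <;> ring

/-- Four times the icosian with given coordinates. -/
def cmb (f : ℕ → ℤ) : Q8 :=
  add (sm (f 0) ⟨4, 0, 0, 0, 0, 0, 0, 0⟩) <| add (sm (f 1) bi) <| add (sm (f 2) bw) <|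
  add (sm (f 3) ⟨-1, 1, 2, 0, -1, -1, 0, 0⟩) <| add (sm (f 4) ⟨-1, 1, 2, 0, 1, 1, 0, 0⟩) <|
  add (sm (f 5) ⟨-2, 0, -1, 1, 0, 0, 1, 1⟩) <| add (sm (f 6) ⟨-1, 1, 1, 1, 0, 0, 2, 0⟩) <|
  add (sm (f 7) ⟨-1, -1, -1, 1, -2, 0, 0, 0⟩) ⟨0, 0, 0, 0, 0, 0, 0, 0⟩

theorem cmb_mem (f : ℕ → ℤ) : q4 (cmb f) ∈ icosians := by
  have h0 : q4 ⟨4, 0, 0, 0, 0, 0, 0, 0⟩ ∈ icosians := by
    convert icosians.one_mem; ext <;> simp [q4]
  have h1 : q4 bi ∈ icosians := q4_bi ▸ Subring.subset_closure (Or.inl rfl)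
  have h2 : q4 bw ∈ icosians := q4_bw ▸ Subring.subset_closure (Or.inr rfl)
  have h3 : q4 ⟨-1, 1, 2, 0, -1, -1, 0, 0⟩ ∈ icosians := q4_mul h1 h2 (by decide)
  have h4 : q4 ⟨-1, 1, 2, 0, 1, 1, 0, 0⟩ ∈ icosians := q4_mul h2 h1 (by decide)
  refine q4_comb _ h0 (q4_comb _ h1 (q4_comb _ h2 (q4_comb _ h3 (q4_comb _ h4 (q4_comb _ (q4_mul h3 h1 (by decide))
    (q4_comb _ (q4_mul h4 h2 (by decide)) (q4_comb _ (q4_mul h3 h3 (by decide)) ?_)))))))
  convert icosians.zero_mem; ext <;> simp [q4]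

/-- `2 h` -/
def h2 : Q8 := ⟨0, -1, 1, 0, 1, 0, 1, 0⟩

theorem icoH_eq : icoH = (1 / 2 : ℝ) • ev h2 := by ext <;> simp [icoH, h2] <;> ring

theorem icoH_mem : icoH ∈ icosians := by
  convert cmb_mem fun i => [-1, 2, 0, -2, -2, 0, 1, -1].getD i 0
  rw [icoH_eq, q4, show cmb _ = sm 2 h2 by decide, ev_sm, smul_smul]; norm_num

theorem star_icoH_mem : star icoH ∈ icosians := by
  convert cmb_mem fun i => [0, 0, 0, 0, 0, 0, -1, 1].getD i 0
  rw [icoH_eq, q4, show cmb _ = sm 2 (cj h2) by decide, ev_sm, smul_smul, ev_cj]; norm_num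

theorem icoH_mul_star : icoH * star icoH = 2 := by
  rw [icoH_eq, Quaternion.star_smul, smul_mul_smul_comm, ← ev_cj, ← ev_mul,
    show qmul h2 (cj h2) = ⟨8, 0, 0, 0, 0, 0, 0, 0⟩ by decide, show (2 : ℍ[ℝ]) = ((2 : ℝ) : ℍ[ℝ]) from rfl]
  ext <;> simp only [re_smul, imI_smul, imJ_smul, imK_smul, ev_re, ev_imI, ev_imJ, ev_imK, re_coe, imI_coe, imJ_coe,
    imK_coe] <;> norm_num

theorem star_mul_icoH : star icoH * icoH = 2 := by rw [Quaternion.star_mul_self, ← Quaternion.self_mul_star, icoH_mul_star]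

theorem mem_icoLeech {v : Fin 3 → ℍ[ℝ]} : v ∈ icoLeech ↔ ∃ c ∈ icosians, ∃ x ∈ icosians, ∃ y ∈ icosians,
    v = c • ![star icoH, star icoH, star icoH] + x • ![icoH, icoH, 0] + y • ![0, icoH, icoH] := by
  constructor
  · rintro ⟨h0, ⟨a, ha, h1⟩, ⟨b, hb, h2⟩, c, hc, h3⟩
    refine ⟨c - v 1 * icoH, sub_mem hc (mul_mem (h0 1) icoH_mem), b, hb, -a, neg_mem ha, ?_⟩
    have e : (c - v 1 * icoH) * star icoH = v 0 - v 1 + v 2 := by
      rw [sub_mul, ← h3, mul_assoc, icoH_mul_star, mul_two]; abel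
    funext t
    fin_cases t <;> simp [e, ← h1, ← h2]
    abel
  · rintro ⟨c, hc, x, hx, y, hy, rfl⟩
    have h1 := icoH_mem
    have h2 := star_icoH_mem
    refine ⟨fun t => ?_, ⟨-y, neg_mem hy, by simp⟩, ⟨x, hx, by simp⟩,
      ⟨c + c + c + (x + y) * icoH * icoH,
        add_mem (add_mem (add_mem hc hc) hc) (mul_mem (mul_mem (add_mem hx hy) h1) h1), ?_⟩⟩
    · refine add_mem (add_mem (mul_mem hc ?_) (mul_mem hx ?_)) (mul_mem hy ?_) <;> fin_cases t <;> simp [h1, h2]
    · rw [add_mul _ (_ * _), mul_assoc (_ * _), icoH_mul_star]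
      simp [add_mul, mul_two]; abel

/-- The icosian Leech lattice as an additive subgroup. -/
def icoSub : AddSubgroup (Fin 3 → ℍ[ℝ]) where
  carrier := icoLeech
  zero_mem' := mem_icoLeech.2 ⟨0, zero_mem _, 0, zero_mem _, 0, zero_mem _, by simp⟩
  add_mem' := by
    simp only [mem_icoLeech]
    rintro _ _ ⟨c, hc, x, hx, y, hy, rfl⟩ ⟨c', hc', x', hx', y', hy', rfl⟩
    exact ⟨_, add_mem hc hc', _, add_mem hx hx', _, add_mem hy hy', by simp only [add_smul]; abel⟩
  neg_mem' := by
    simp only [mem_icoLeech]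
    rintro _ ⟨c, hc, x, hx, y, hy, rfl⟩
    exact ⟨_, neg_mem hc, _, neg_mem hx, _, neg_mem hy, by simp only [neg_smul]; abel⟩

/-- Coordinates of the basis vectors. -/
def decP : ℕ := 0x4040404040404040403e4040404042403f3d4440423e40434041404040403f40404040404040404040404040404040403f3e4241413f40413f3d4241413f41413e40423e403e41414040404040404040413e4041414140403e3e4340413e40423f413f3f4040403f3f403f3f4040413f3f3f423f403f41424040404040404040413e414140404141403e4241423f3f414040404040404040403e4140413f41414040414041403f414040404040404040413f3f4140404040403e4241423f4042404040404040404041413e3f3f41413f413d424242403f4242403f4241413f40423f3f42414140403e3e433f413f41413f40413f404041403f3f413f404042403f3f423f403f4041403f4140413f4041403f4040404041404040414041403f413f4041404040404040404040404040404040404040404040413e414242403f41423f3f4241413f403e3f4240413f40414040404141403f40413f404242403e403e423f3e3f40413f3e40413f403f41404040404040404040404040404040404041403f4141403f4042403f4141413f404040404141413f404040404141403f4040404040404040404040404040404040403f414141404041413d4242424040423e40423f403f40403e40413e403f4140403f4040414040404041404040403f413f3f4240413f40413f3f4240413f404140433e3f3f413f3e4041403f404040404140404040414040413f404241413e40404040404140404041423e4040413f3f404040404041404040404040404040404041404040403f4041413e4140413f3f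

/-- An icosian from the table. -/
def decQ (j s : ℕ) : Q8 := cmb fun k => (get 8 (get 192 decP j) (8 * s + k) : ℤ) - 64

theorem dec_ok : ∀ j < 24, mN (get 192 basP j) 0 = add (qmul (decQ j 0) (cj h2)) (qmul (decQ j 1) h2) ∧
    mN (get 192 basP j) 1 = add (add (qmul (decQ j 0) (cj h2)) (qmul (decQ j 1) h2)) (qmul (decQ j 2) h2) ∧
    mN (get 192 basP j) 2 = add (qmul (decQ j 0) (cj h2)) (qmul (decQ j 2) h2) := by decide +kernel

theorem psi_mem (v : leechLattice) : psi v ∈ icoLeech :=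
  forall_psi (AddMonoidHom.id _) icoSub (fun j hj => mem_icoLeech.2 ⟨_, cmb_mem _, _, cmb_mem _, _, cmb_mem _, by
    obtain ⟨h0, h1, h2⟩ := dec_ok j hj
    change psi (bas j) = q4 (decQ j 0) • _ + q4 (decQ j 1) • _ + q4 (decQ j 2) • _
    funext t
    rw [psi_of_coe (coe_bas hj)]
    fin_cases t <;> simp [h0, h1, h2, ev_add, ev_mul, ev_cj, icoH_eq, q4, smul_smul] <;> norm_num⟩) v

/-- Left multiplication by `i` on the basis. -/
def liY : ℕ := 0x40404040403c3c403c40404040404440404040404040404040403e403e3e3e403e4040403e404240404042404040404040424040403e3e403e3e424040404242404040404040404040404040403c40403c40404040404040404040404040404040424040403e3e403e423e4040404242404040404040404042404042403e3e3e3e4040404040424040424040404040404240403e403e3e423e4040404040424040424040404040404040404040403c403c40404040404040404040404040404042404042403e3e423e40404040404240403e404040404040404042403e3e3e403e4040403e40424040403e404040404040403e40423e3e403e4040403e40424040403e40404040404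0404040403e3e403e404040403e4240424040424040424042423e4040403e423e4042403e4040404040404040404040414141413f3f3f413d3f41413f3f3f41413f3f413f3f413f404240403e4040423e4040403e403e42404240404040404042423e42404040403e40404040403e4240403e4040404040434141413f3f41413f413f3f3f3f3f4141413f41413f413f424240423e3e3e40404040403e404042404040404040404042404040403e40403e4042403e40404240423e404040404041413f3f413f3f413d413f3f3f3f3f4141413f413f41413f42423e4040404040404040403e404042404240424040424042403e42403e40403e4040403e404040424040404040424041413f413f413f413f413f3f3d3f3f41413f3f413f3f414141413f413f4141414141413f3f413d4141413f413f3f413f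

/-- Left multiplication by the second generator on the basis. -/
def lwY : ℕ := 0x44404040403c40403c40404040404040403c40404040404042423e403e3e40403e3e404040404040403e40404040404042424240423e40403e3e404040404040403e40404040404042404042403e423e3e40404040404240403e40404040404042423e40423e40403e42404040404040403e40404040404044404040404040403c4040404040404040404040404040404240403e403e423e3e40404040403e40403e40404040404042404042403e42423e40404040403e40403e40404040404044404040404040404040404040404040403c404040404040424242403e3e40403e42404040404040403e40404040404042404040403e40403e40424042404042403e3e404040404042404040403e40403e404042403e40403e3e40404040403e4242404040404240403e404042403e40403e3e4040404040424242424040424040404042404040403e3e404040404040404440404040444040404040404040404040404040404040424240424242424040404040424040424040404040404040424240404042423e4042404240404040404040404040403e444440404040404040404040404040404040404040404040424242404040423e3e40424042404040404040404040404041413f41413f433f3f414141413f3f413f3f3f413f41413f41433f3f4141413f3f3f4141413f3f413f413f41413f413f43413f413f41413f3f3f4141413f41413f3f3f3f4141413f41433f413f41414141414141413f3f413f3f3f3f3f3f413f404240404042424042404042424040404042404040404240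

theorem smul_mem_range {u : Q8} {Y : ℕ} (h : ∀ j < 24, isL (get 192 Y j) = true ∧
    ∀ t, sm 4 (mN (get 192 Y j) t) = qmul u (mN (get 192 basP j) t)) : ∀ y ∈ psi.range, q4 u • y ∈ psi.range := by
  rintro _ ⟨v, rfl⟩
  refine forall_psi (DistribSMul.toAddMonoidHom _ (q4 u)) psi.range (fun j hj => ⟨lv (get 192 Y j), funext fun t => ?_⟩) v
  change _ = q4 u * _
  rw [psi_of_coe (coe_lv (h j hj).1), psi_of_coe (coe_bas hj), q4, smul_mul_smul_comm, ← ev_mul, ← (h j hj).2,
    ev_sm, smul_smul]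
  norm_num

theorem smul_mem_range_of_mem {u : ℍ[ℝ]} (hu : u ∈ icosians) : ∀ y ∈ psi.range, u • y ∈ psi.range := by
  induction hu using Subring.closure_induction with
  | mem x hx =>
    rcases hx with rfl | rfl
    · exact q4_bi ▸ smul_mem_range (Y := liY) (by decide +kernel)
    · exact q4_bw ▸ smul_mem_range (Y := lwY) (by decide +kernel)
  | zero => exact fun y _ => by rw [zero_smul]; exact zero_mem _
  | one => exact fun y hy => by rwa [one_smul]
  | add a b _ _ ha hb => exact fun y hy => by rw [add_smul]; exact add_mem (ha y hy) (hb y hy)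
  | neg a _ ha => exact fun y hy => by rw [neg_smul]; exact neg_mem (ha y hy)
  | mul a b _ _ ha hb => exact fun y hy => by rw [mul_smul]; exact ha _ (hb y hy)

theorem mem_range_of {a : ℕ} {x : Fin 3 → Q8} (h : isL a = true ∧ ∀ t, mN a t = sm 4 (x t)) :
    (fun t => (1 / 2 : ℝ) • ev (x t)) ∈ psi.range := ⟨lv a, funext fun t => by
  rw [psi_of_coe (coe_lv h.1), h.2, ev_sm, smul_smul]; norm_num⟩

theorem exists_psi {v : Fin 3 → ℍ[ℝ]} (hv : v ∈ icoLeech) : ∃ x, psi x = v := by
  obtain ⟨c, hc, x, hx, y, hy, rfl⟩ := mem_icoLeech.1 hv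
  have z : ev ⟨0, 0, 0, 0, 0, 0, 0, 0⟩ = 0 := by ext <;> simp
  refine add_mem (add_mem (smul_mem_range_of_mem hc _ ?_) (smul_mem_range_of_mem hx _ ?_))
    (smul_mem_range_of_mem hy _ ?_)
  · convert mem_range_of (a := 0x414141413d3d41414141414141414141414141413d414141) (x := ![cj h2, cj h2, cj h2])
      (by decide +kernel) with t
    fin_cases t <;> simp [icoH_eq, ev_cj]
  · convert mem_range_of (a := 0x404040404040404040404040404040404040444040404044)
      (x := ![h2, h2, ⟨0, 0, 0, 0, 0, 0, 0, 0⟩]) (by decide +kernel) with t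
    fin_cases t <;> simp [icoH_eq, z]
  · convert mem_range_of (a := 0x404040404040404040404040404044404040444040404040)
      (x := ![⟨0, 0, 0, 0, 0, 0, 0, 0⟩, h2, h2]) (by decide +kernel) with t
    fin_cases t <;> simp [icoH_eq, z]

/-- The identification of the two lattices. -/
noncomputable def icoE : leechLattice ≃ icoLeech :=
  Equiv.ofBijective (fun v => ⟨psi v, psi_mem v⟩) ⟨fun _ _ h => psi_injective (congrArg Subtype.val h),
    fun v => (exists_psi v.2).imp fun _ h => Subtype.ext h⟩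

theorem coe_icoE (v : leechLattice) : (icoE v : Fin 3 → ℍ[ℝ]) = psi v := rfl

end Cfsg.Lib.J2
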